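import Groth.Agent.H26.ArtinTriv.Contract
import Groth.Agent.H26.InterDiv
import Groth.Agent.H23.PicInv
import Groth.Agent.NQF.FibreComp
import Groth.Agent.S7910
import Groth.Agent.S7913

/-!
# Contractions over a henselian discrete valuation ring
-/

noncomputable section

set_option autoImplicit false
set_option linter.style.haveILetI false
set_option backward.isDefEq.respectTransparency false
set_option backward.isDefEq.respectTransparency.types false

universe u

open CategoryTheory CategoryTheory.Limits AlgebraicGeometry TopologicalSpace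
open Groth.Agent.H23

namespace Groth.Agent.H26.ArtinTriv

open Groth.Agent

/-- An effective divisor meeting an integral proper curve in finitely many points has positive degree on it. -/
theorem curveDeg_pullback_pos {k : Type u} [Field k] {C Y : Scheme.{u}} [C.Over (Spec (CommRingCat.of k))]
    [IsIntegral C] [IsProper (C ↘ Spec (CommRingCat.of k))] (hdim : topologicalKrullDim C = 1) (u : C ⟶ Y)
    {I : Y.IdealSheafData} (hI : BlowUp.IsEffCartierIdeal I)
    (hgen : u (genericPoint C) ∉ (I.support : Set Y)) (hne : ∃ c, u c ∈ (I.support : Set Y))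
    {L : Y.Modules} (hL : ClSub.IsInverseOf L (ClSub.idealMod I)) :
    0 < ArSurf.curveDeg k C ((Scheme.Modules.pullback u).obj L) := by
  letI := PicMul.clMonoid C
  letI := PicMul.clMonoid Y
  have hI' : BlowUp.IsEffCartierIdeal (I.comap u) := S8862.result u I hI fun ξ hξ => by
    rw [← hξ _ (genericPoint_specializes ξ)]
    exact hgen
  have hLi := ArInter.isInvertible_of_inverse (IdealCl.isInvertible_idealMod hI) hL
  have hpL := PicClLib.isInvertible_pullback u hLi
  obtain ⟨e1⟩ := InterDiv.nonempty_pullback_idealMod u I hI hI'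
  have hinv : ClSub.IsInverseOf ((Scheme.Modules.pullback u).obj L) (ClSub.idealMod (I.comap u)) := by
    refine PicMul.cl_eq_iff.1 ?_
    rw [PicMul.cl_tensor, ← PicMul.cl_eq_iff.2 ⟨e1⟩]
    show PicMul.pullHom u (PicF.cl L) * PicMul.pullHom u (PicF.cl (ClSub.idealMod I)) = _
    rw [← map_mul, ← PicMul.cl_tensor, PicMul.cl_eq_iff.2 hL, ← PicMul.one_def, map_one, PicMul.one_def]
  have hO := InvEnd.isFinLocFreeOfRank_one (ArInter.isInvertible_structure C)
  have h := (Groth.Agent.S1604.result k C hdim.le (I.comap u) hI' _ hpL hinv 1 (Coh.structureModule C) hO).2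
  obtain ⟨e5⟩ : Nonempty (CohB1.tensorMod (Coh.structureModule C)
      ((Scheme.Modules.pullback u).obj L) ≅ (Scheme.Modules.pullback u).obj L) := by
    refine PicMul.cl_eq_iff.1 ?_
    rw [PicMul.cl_tensor, ← PicMul.one_def, one_mul]
  rw [curveDeg_eq_deg hdim hpL, ← CurveRR.deg_congr _ e5, h]
  simp only [Curv2.deg, Nat.cast_one, one_mul, mul_one, sub_self, zero_add, add_sub_cancel_left]
  have hpos : 0 < Module.finrank k (Coh.HH C (ClSub.quotMod (I.comap u)) 0) := Nat.pos_of_ne_zero fun h0 => by
    rw [InterDiv.finrank_quotMod_eq_zero_iff, Scheme.IdealSheafData.support_comap] at h0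
    obtain ⟨c, hc⟩ := hne
    exact Set.eq_empty_iff_forall_notMem.1 h0 c hc
  push_cast
  omega

/-- An effective divisor missed by a morphism pulls back trivially. -/
theorem pullHom_idealMod_eq_one {C Y : Scheme.{u}} (u : C ⟶ Y) {I : Y.IdealSheafData}
    (hI : BlowUp.IsEffCartierIdeal I) (hmiss : ∀ c, u c ∉ (I.support : Set Y)) :
    letI := PicMul.clMonoid C; letI := PicMul.clMonoid Y
    PicMul.pullHom u (PicF.cl (ClSub.idealMod I)) = 1 := by
  letI := PicMul.clMonoid C
  letI := PicMul.clMonoid Y
  have htop : I.comap u = ⊤ := by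
    rw [← Scheme.IdealSheafData.support_eq_bot_iff, eq_bot_iff]
    intro c hc
    rw [Scheme.IdealSheafData.support_comap] at hc
    exact (hmiss c hc).elim
  obtain ⟨e⟩ := InterDiv.nonempty_pullback_idealMod u I hI (htop ▸ IdealCl.isEffCartier_top)
  refine (show PicMul.pullHom u (PicF.cl (ClSub.idealMod I)) = PicF.cl (ClSub.idealMod (I.comap u)) from
    PicMul.cl_eq_iff.2 ⟨e⟩).trans ?_
  rw [htop, ← Scheme.IdealSheafData.one_eq_top]
  exact IdealCl.cl_one

variable {R : Type u} [CommRing R] [IsDomain R] [IsDiscreteValuationRing R]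

theorem range_mem_fibreComponents {X : Over (Spec (CommRingCat.of R))} [IsIntegral X.left] [Flat X.hom]
    (hdim : topologicalKrullDim X.left = 2) (E : ArSurf.VertComp R X) :
    Set.range E.ι.base ∈ Models.fibreComponents R X := by
  haveI := E.isClosedImmersion
  haveI := E.isIntegral
  have hs : ∀ c, E.ι.base c ∈ Models.specialFibreSet R X := fun c => by
    show X.hom (E.ι.base c) = IsLocalRing.closedPoint R
    rw [← Scheme.Hom.comp_apply, E.w, Scheme.Hom.comp_apply]
    refine PrimeSpectrum.ext ?_
    show Ideal.comap (IsLocalRing.residue R) _ = IsLocalRing.maximalIdeal R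
    rw [(Ideal.eq_bot_or_top _).resolve_right (E.curve.hom c).2.ne_top]
    exact IsLocalRing.ker_residue (R := R)
  have hcl : Set.range E.ι.base = closure {E.ι.base (genericPoint E.curve.left)} := InterSymm.range_eq_closure E
  refine ⟨⟨hcl ▸ isIrreducible_singleton.closure, Set.range_subset_iff.2 hs⟩, fun S hS hES => ?_⟩
  obtain ⟨w, hw⟩ := QuasiSober.sober hS.1.closure isClosed_closure
  have hgw : w ⤳ E.ι.base (genericPoint E.curve.left) := hw.specializes (subset_closure (hES ⟨_, rfl⟩))
  by_cases hwe : w = E.ι.base (genericPoint E.curve.left)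
  · rw [hcl, ← hwe, hw.def]; exact subset_closure
  obtain ⟨c, hc⟩ : ∃ c, c ≠ genericPoint E.curve.left := by
    by_contra hall
    simp only [not_exists, not_not] at hall
    haveI : Subsingleton E.curve.left := ⟨fun a b => (hall a).trans (hall b).symm⟩
    have h0 : topologicalKrullDim E.curve.left ≤ 0 := by
      rw [topologicalKrullDim, Order.krullDim_eq_of_orderIso irreducibleSetEquivPoints]
      exact Order.krullDim_nonpos_of_subsingleton
    rw [E.dim_eq] at h0
    exact absurd h0 (by decide)
  refine (GGContract.no_chain hdim.le (genericPoint_specializes w) hgw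
    ((genericPoint_specializes c).map E.ι.continuous) (fun h => ?_) hwe
    (fun h => hc (E.ι.isClosedEmbedding.injective h).symm)).elim
  have h1 : X.hom w = IsLocalRing.closedPoint R :=
    (closure_minimal hS.2 (Models.isClosed_specialFibreSet R X)) hw.mem
  rw [← h, apply_generic, genericPoint_eq_bot_of_affine] at h1
  exact GGContract.closedPoint_ne_bot R h1.symm

theorem exists_contraction_henselian [HenselianLocalRing R] {X : Over (Spec (CommRingCat.of R))}
    [IsIntegral X.left] (hnor : ∀ x : X.left, IsIntegrallyClosed (X.left.presheaf.stalk x))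
    (hdim : topologicalKrullDim X.left = 2) [Flat X.hom] (hproj : Neron.IsProjectiveOver R X)
    {r : ℕ} (Γ : Fin r → ArSurf.VertComp R X)
    (Γ' : ArSurf.VertComp R X) (hΓ' : ∀ i, Set.range (Γ'.ι.base : Γ'.curve.left → X.left) ≠ Set.range (Γ i).ι.base) :
    ∃ (Y : Over (Spec (CommRingCat.of R))) (f : X ⟶ Y),
      IsIntegral Y.left ∧ (∀ q : Y.left, IsIntegrallyClosed (Y.left.presheaf.stalk q)) ∧
      topologicalKrullDim Y.left = 2 ∧ Flat Y.hom ∧ Neron.IsProjectiveOver R Y ∧
      (∀ i, ∃ y : Y.left, Set.range (((Γ i).ι ≫ f.left).base : (Γ i).curve.left → Y.left) = {y}) ∧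
      f.left.base ⁻¹' (f.left.base '' ⋃ i, Set.range (Γ i).ι.base) = ⋃ i, Set.range (Γ i).ι.base ∧
      ∀ V : Y.left.Opens, (V : Set Y.left) ∩ f.left.base '' (⋃ i, Set.range (Γ i).ι.base) = ∅ →
        IsIso (f.left ∣_ V) := by
  classical
  obtain ⟨n, ι, hι, hcomm⟩ := id hproj
  haveI := hι
  haveI := MultiP1.isProper_toBase (X := Spec (CommRingCat.of R)) n
  haveI hpr : IsProper X.hom := by
    rw [show X.hom = ι ≫ CohB1.ProjSpaceOver.toBase n (Spec (CommRingCat.of R)) from hcomm.symm]
    exact MorphismProperty.comp_mem _ _ _ inferInstance inferInstance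
  haveI : IsLocallyNoetherian X.left := LocallyOfFiniteType.isLocallyNoetherian X.hom
  haveI : CompactSpace X.left := QuasiCompact.compactSpace_of_compactSpace X.hom
  haveI : IsNoetherian X.left := {}
  haveI := fun i => (Γ i).isClosedImmersion
  haveI := fun i => (Γ i).isIntegral
  set T := ⋃ i, Set.range ((Γ i).ι.base : (Γ i).curve.left → X.left)
  have hTc : IsClosed T := isClosed_iUnion_of_finite fun i => (Γ i).ι.isClosedEmbedding.isClosed_range
  let CS : Set (Set X.left) := {Z ∈ Models.fibreComponents R X | ∀ i, Z ≠ Set.range (Γ i).ι.base}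
  haveI : Fintype CS := ((Groth.Agent.FiniteNormal.fibreComponents_finite R X).subset fun Z hZ => hZ.1).fintype
  -- a closed point on each remaining component
  have hpt : ∀ Z : CS, ∃ x : X.left, x ∈ Z.1 ∧ x ∉ T ∧ IsClosed ({x} : Set X.left) ∧ x ∈ Models.specialFibreSet R X := by
    intro Z
    obtain ⟨E, hE⟩ := CompList.exists_vertComp hdim Z.2.1
    haveI := E.isClosedImmersion
    haveI := E.isIntegral
    haveI := ArInter.isProper_curve E
    haveI : JacobsonSpace E.curve.left :=
      LocallyOfFiniteType.jacobsonSpace (E.curve.left ↘ Spec (CommRingCat.of (IsLocalRing.ResidueField R)))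
    obtain ⟨c, hcT, hc⟩ := nonempty_inter_closedPoints (Z := E.ι.base ⁻¹' Tᶜ)
      ⟨genericPoint _, fun h => by
        obtain ⟨i, hi⟩ := Set.mem_iUnion.1 h
        exact InterSymm.genPt_notMem E (Γ i) (fun h' => Z.2.2 i (hE ▸ h')) hi⟩
      (hTc.isOpen_compl.preimage E.ι.continuous).isLocallyClosed
    refine ⟨E.ι.base c, hE ▸ ⟨c, rfl⟩, hcT, ?_, Z.2.1.1.2 (hE ▸ ⟨c, rfl⟩)⟩
    have h := E.ι.isClosedEmbedding.isClosedMap _ hc
    rwa [Set.image_singleton] at h
  choose x hxZ hxT hxc hxs using hpt
  choose D d hd hdeff hhor hinter using fun Z : CS => S7910.result R X hdim hproj (x Z) (hxc Z) (hxs Z)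
  let J := ∏ Z : CS, (d Z).ker ^ 1
  obtain ⟨hJ, hclJ⟩ := IdealCl.eff_and_cl_prod Finset.univ (fun Z => (d Z).ker) hdeff (fun _ => 1)
  haveI := hd
  have hsupp : (J.support : Set X.left) = ⋃ Z, Set.range (d Z).base := by
    refine (mem_support_prod Finset.univ (fun Z => (d Z).ker) (fun _ => 1) fun _ => le_rfl).trans ?_
    simp only [Finset.mem_univ, Set.iUnion_true]
    exact Set.iUnion_congr fun Z => by
      rw [Scheme.Hom.support_ker]
      exact (d Z).isClosedEmbedding.isClosed_range.closure_eq
  have hsx : ∀ y ∈ (J.support : Set X.left), y ∈ Models.specialFibreSet R X → ∃ Z, y = x Z := fun y hy hys => by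
    rw [hsupp] at hy
    obtain ⟨Z, hZ⟩ := Set.mem_iUnion.1 hy
    exact ⟨Z, (hinter Z).le ⟨hZ, hys⟩⟩
  letI := PicMul.clMonoid X.left
  obtain ⟨L, hL, hLJ⟩ := PicInv.exists_inverse (IdealCl.isInvertible_idealMod hJ)
  have hLinv : ClSub.IsInverseOf L (ClSub.idealMod J.subschemeι.ker) := by
    rw [Scheme.IdealSheafData.ker_subschemeι]
    refine PicMul.cl_eq_iff.1 ?_
    rw [PicMul.cl_tensor, mul_comm, ← PicMul.cl_tensor]
    exact PicMul.cl_eq_iff.2 hLJ
  obtain ⟨m, hm1, hgg⟩ := S7913.result (IsDiscreteValuationRing.not_isField R) X hdim hproj J.subscheme J.subschemeι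
    (by rw [Scheme.IdealSheafData.ker_subschemeι]; exact hJ) (fun p => by
      obtain ⟨Z, q, hq⟩ := Set.mem_iUnion.1 (hsupp.le (show J.subschemeι p ∈ (J.support : Set X.left) from
        J.range_subschemeι ▸ ⟨p, rfl⟩))
      obtain ⟨q', hq', hb⟩ := hhor Z q
      obtain ⟨p', hp'⟩ : (d Z).base q' ∈ Set.range J.subschemeι.base :=
        J.range_subschemeι.ge (hsupp.ge (Set.mem_iUnion.2 ⟨Z, q', rfl⟩))
      refine ⟨p', J.subschemeι.isEmbedding.isInducing.specializes_iff.1 ?_, ?_⟩
      · rw [hp', ← hq]; exact hq'.map (d Z).continuous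
      · rw [Scheme.Hom.comp_apply] at hb ⊢
        rw [hp']; exact hb) L hLinv
  rw [Scheme.IdealSheafData.ker_subschemeι] at hLinv
  let P := CohB1.tensorPow L m
  have hP : PicF.IsInvertible P := PicMul.isInvertible_tensorPow hL m
  have hintP : ∀ (E : ArSurf.VertComp R X) (k : ℕ),
      ArSurf.inter R X (CohB1.tensorPow L k) E = (k : ℤ) * ArSurf.inter R X L E := by
    intro E k
    haveI := E.isClosedImmersion
    haveI := E.isIntegral
    induction k with
    | zero => rw [Nat.cast_zero, zero_mul]; exact ArInter.inter_structure E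
    | succ k ih =>
      rw [show CohB1.tensorPow L (k + 1) = CohB1.tensorMod (CohB1.tensorPow L k) L from rfl,
        ArInter.inter_tensor E (PicMul.isInvertible_tensorPow hL k) hL, ih]
      push_cast; ring
  have hdegη : 0 < ArSurf.curveDeg (FractionRing R) ((Neron.genericFibre R).obj X).left
      ((Scheme.Modules.pullback (pullback.fst X.hom (Neron.genPt R))).obj P) := by
    obtain ⟨hi, hd1⟩ := isIntegral_and_dim X hdim
    let Xη := ((Neron.genericFibre R).obj X).left
    haveI : IsIntegral Xη := hi
    haveI : IsProper (Xη ↘ Spec (CommRingCat.of (FractionRing R))) :=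
      show IsProper (pullback.snd X.hom (Neron.genPt R)) from inferInstance
    let u : Xη ⟶ X.left := pullback.fst X.hom (Neron.genPt R)
    have hd' : topologicalKrullDim Xη = 1 := hd1
    have hr : Set.range u.base = X.hom.base ⁻¹' Set.range (Neron.genPt R).base := Scheme.Pullback.range_fst _ _
    have hbot : ∀ y, y ∈ Set.range u.base ↔ X.hom y = (⊥ : PrimeSpectrum R) := fun y => by
      rw [hr, Set.mem_preimage, SmoothMinimal.range_genPt, Set.mem_singleton_iff, genericPoint_eq_bot_of_affine]
    haveI : IsPreimmersion (Neron.genPt R) := IsPreimmersion.of_isLocalization (nonZeroDivisors R)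
    haveI : IsPreimmersion u := inferInstanceAs (IsPreimmersion (pullback.fst X.hom (Neron.genPt R)))
    have hgen : u (genericPoint Xη) = genericPoint X.left := by
      obtain ⟨g, hg⟩ := (hbot (genericPoint X.left)).2 (by rw [apply_generic, genericPoint_eq_bot_of_affine])
      refine ((genericPoint_specializes _).antisymm ?_).eq.symm
      rw [← hg]
      exact (genericPoint_specializes g).map u.continuous
    have hclosed : u (genericPoint Xη) ∉ (J.support : Set X.left) := by
      intro hmem
      haveI := Γ'.isClosedImmersion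
      haveI := Γ'.isIntegral
      obtain ⟨Z', hZ'⟩ := hsx (Γ'.ι.base (genericPoint _))
        ((genericPoint_specializes _).mem_closed J.support.isClosed (hgen ▸ hmem))
        ((range_mem_fibreComponents hdim Γ').1.2 ⟨_, rfl⟩)
      obtain ⟨c, hc⟩ : ∃ c, c ≠ genericPoint Γ'.curve.left := by
        by_contra hall
        simp only [not_exists, not_not] at hall
        haveI : Subsingleton Γ'.curve.left := ⟨fun a b => (hall a).trans (hall b).symm⟩
        have h0 : topologicalKrullDim Γ'.curve.left ≤ 0 := by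
          rw [topologicalKrullDim, Order.krullDim_eq_of_orderIso irreducibleSetEquivPoints]
          exact Order.krullDim_nonpos_of_subsingleton
        rw [Γ'.dim_eq] at h0
        exact absurd h0 (by decide)
      have hcc := ((genericPoint_specializes c).map Γ'.ι.continuous).mem_closed (hZ'.symm ▸ hxc Z' :) rfl
      exact hc (Γ'.ι.isClosedEmbedding.injective hcc)
    obtain ⟨Z₀⟩ : Nonempty CS := ⟨⟨_, range_mem_fibreComponents hdim Γ', hΓ'⟩⟩
    obtain ⟨q, hq⟩ : x Z₀ ∈ Set.range (d Z₀).base := ((hinter Z₀).ge rfl).1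
    obtain ⟨q', -, hb⟩ := hhor Z₀ q
    obtain ⟨c, hc⟩ := (hbot ((d Z₀).base q')).2 (PrimeSpectrum.ext hb)
    have hpos : 0 < ArSurf.curveDeg (FractionRing R) Xη ((Scheme.Modules.pullback u).obj L) :=
      curveDeg_pullback_pos hd' u hJ hclosed ⟨c, hc ▸ hsupp.ge (Set.mem_iUnion.2 ⟨Z₀, q', rfl⟩)⟩ hLinv
    show 0 < ArSurf.curveDeg (FractionRing R) Xη ((Scheme.Modules.pullback u).obj P)
    obtain ⟨eP⟩ : Nonempty ((Scheme.Modules.pullback u).obj P ≅
        CohB1.tensorPow ((Scheme.Modules.pullback u).obj L) m) := by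
      letI := PicMul.clMonoid Xη
      refine PicMul.cl_eq_iff.1 ?_
      show PicMul.pullHom u (PicF.cl (CohB1.tensorPow L m)) = _
      rw [PicMul.cl_tensorPow, PicMul.cl_tensorPow, map_pow]
      rfl
    rw [curveDeg_eq_deg hd' (PicClLib.isInvertible_pullback _ hL)] at hpos
    rw [curveDeg_eq_deg hd' (PicClLib.isInvertible_pullback _ hP), CurveRR.deg_congr _ eP,
      CurveAmple.deg_tensorPow hd' (PicClLib.isInvertible_pullback _ hL)]
    exact mul_pos (by exact_mod_cast hm1) hpos
  refine GGContract.exists_contraction X hnor hdim hproj Γ P hP (hgg m le_rfl) hdegη fun E => ?_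
  haveI := E.isClosedImmersion
  haveI := E.isIntegral
  haveI := ArInter.isProper_curve E
  constructor
  · intro htriv
    by_contra hne
    simp only [not_exists] at hne
    have h0 : ArSurf.inter R X P E = 0 := by
      rw [ArSurf.inter, ArInter.curveDeg_eq E (PicClLib.isInvertible_pullback _ hP),
        CurveRR.deg_congr _ htriv.some]
      unfold Curv2.deg
      simp
    rw [hintP, mul_eq_zero] at h0
    have h0' := h0.resolve_left (by exact_mod_cast (show m ≠ 0 by omega))
    let Z : CS := ⟨_, range_mem_fibreComponents hdim E, hne⟩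
    have hgenE : E.ι.base (genericPoint E.curve.left) ∉ (J.support : Set X.left) := fun hmem => by
      obtain ⟨Z', hZ'⟩ := hsx _ hmem ((range_mem_fibreComponents hdim E).1.2 ⟨_, rfl⟩)
      obtain ⟨c, hc⟩ : ∃ c, c ≠ genericPoint E.curve.left := by
        by_contra hall
        simp only [not_exists, not_not] at hall
        haveI : Subsingleton E.curve.left := ⟨fun a b => (hall a).trans (hall b).symm⟩
        have h0 : topologicalKrullDim E.curve.left ≤ 0 := by
          rw [topologicalKrullDim, Order.krullDim_eq_of_orderIso irreducibleSetEquivPoints]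
          exact Order.krullDim_nonpos_of_subsingleton
        rw [E.dim_eq] at h0
        exact absurd h0 (by decide)
      have hcc := ((genericPoint_specializes c).map E.ι.continuous).mem_closed (hZ'.symm ▸ hxc Z' :) rfl
      exact hc (E.ι.isClosedEmbedding.injective hcc)
    have hdis := ((InterDiv.inter_nonneg_and_eq_zero_iff E hJ hgenE hLinv).2).1 h0'
    exact Set.disjoint_left.1 hdis (hxZ Z) (hsupp.ge (Set.mem_iUnion.2 ⟨Z, ((hinter Z).ge rfl).1⟩))
  · rintro ⟨i, hi⟩
    letI := PicMul.clMonoid E.curve.left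
    have hmiss : ∀ c, E.ι c ∉ (J.support : Set X.left) := fun c hc => by
      obtain ⟨Z, hZ⟩ := hsx _ hc ((range_mem_fibreComponents hdim E).1.2 ⟨c, rfl⟩)
      exact hxT Z (Set.mem_iUnion.2 ⟨i, hi ▸ ⟨c, hZ⟩⟩)
    have h1 := pullHom_idealMod_eq_one E.ι hJ hmiss
    have h2 := congrArg (PicMul.pullHom E.ι) (PicMul.cl_eq_iff.2 hLinv)
    rw [PicMul.cl_tensor, map_mul, h1, mul_one, ← PicMul.one_def, map_one] at h2
    refine PicMul.cl_eq_iff.1 ?_
    show PicMul.pullHom E.ι (PicF.cl (CohB1.tensorPow L m)) = _
    rw [PicMul.cl_tensorPow, map_pow, h2, one_pow]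
    exact PicMul.one_def

end Groth.Agent.H26.ArtinTriv
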