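import Groth.Agent.H26.HorizGG.Main
import Groth.Agent.H26.LefAmple.Global

/-!
# Sections trivializing along an effective divisor
-/

noncomputable section

set_option autoImplicit false
set_option linter.style.haveILetI false
set_option backward.isDefEq.respectTransparency false
set_option backward.isDefEq.respectTransparency.types false

universe u

open CategoryTheory CategoryTheory.Limits AlgebraicGeometry TopologicalSpace Opposite
open Groth.Agent.H23

namespace Groth.Agent.H26.ArtinTriv

open Groth.Agent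

variable {X : Scheme.{u}}

/-- `P ⊗ I → P → P|_D`. -/
theorem exists_seq {D : Scheme.{u}} (d : D ⟶ X) [IsClosedImmersion d] {P N : X.Modules}
    (hP : PicF.IsInvertible P) (e1 : N ≅ CohB1.tensorMod P (ClSub.idealMod d.ker)) :
    ∃ (f : N ⟶ P) (M : D.Modules) (g : P ⟶ (Scheme.Modules.pushforward d).obj M) (w : f ≫ g = 0),
      Nonempty (M ≅ (Scheme.Modules.pullback d).obj P) ∧ (ShortComplex.mk f g w).ShortExact := by
  letI := PicMul.clMonoid D
  let T := DCoh.tensorBi.obj P
  haveI : T.IsEquivalence := Chern.isEquivalence_ten hP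
  have hS := (LefAmple.idealSES_shortExact d.ker).map_of_exact T
  let e2 : T.obj (Coh.structureModule X) ≅ P := KFlatLib.tensorUnitIso P
  obtain ⟨eq⟩ := DivisorExt.nonempty_quotMod_iso d
  haveI := KFlatLib.isIso_projMod_of_isClosedImmersion d (Coh.structureModule D) P
  let M := (DCoh.tensorBi.obj (Coh.structureModule D)).obj ((Scheme.Modules.pullback d).obj P)
  let e3 : T.obj (ClSub.quotMod d.ker) ≅ (Scheme.Modules.pushforward d).obj M :=
    T.mapIso eq ≪≫ (PicMul.comm P _).some ≪≫ asIso (KFlatLib.projMod d (Coh.structureModule D) P)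
  refine ⟨e1.hom ≫ T.map (ClSub.idealModι d.ker) ≫ e2.hom, M,
    e2.inv ≫ T.map (ClSub.toSubscheme d.ker) ≫ e3.hom, ?_, ?_, ?_⟩
  · simp only [Category.assoc, Iso.hom_inv_id_assoc, ← Functor.map_comp_assoc]
    rw [show ClSub.idealModι d.ker ≫ ClSub.toSubscheme d.ker = 0 from kernel.condition _, T.map_zero, zero_comp,
      comp_zero]
  · refine PicMul.cl_eq_iff.1 ?_
    show PicF.cl (CohB1.tensorMod (Coh.structureModule D) ((Scheme.Modules.pullback d).obj P)) = _
    rw [PicMul.cl_tensor, ← PicMul.one_def, one_mul]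
  · exact ShortComplex.shortExact_of_iso (ShortComplex.isoMk e1.symm e2 e3
      (by simp [LefAmple.idealSES]) (by simp [LefAmple.idealSES])) hS

/-- A frame of `P|_D` lifts to a section of `P` generating along `D` when `H¹(P ⊗ I) = 0`. -/
theorem exists_section_generating {D : Scheme.{u}} (d : D ⟶ X) [IsClosedImmersion d] {P N : X.Modules}
    (hP : PicF.IsInvertible P) (e1 : N ≅ CohB1.tensorMod P (ClSub.idealMod d.ker))
    (h1 : Subsingleton (Coh.HH X N 1))
    (htriv : Nonempty ((Scheme.Modules.pullback d).obj P ≅ Coh.structureModule D)) :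
    ∃ s : Coh.structureModule X ⟶ P, Set.range d.base ⊆ (CohB1.genLocus P s : Set X) := by
  obtain ⟨f, M, g, w, ⟨eM⟩, hS⟩ := exists_seq d hP e1
  obtain ⟨et⟩ := htriv
  haveI : Epi g := hS.epi_g
  let adj := Scheme.Modules.pullbackPushforwardAdjunction d
  let α : Coh.structureModule D ⟶ M := (eM ≪≫ et).inv
  let e : Coh.structureModule D ≅ (Scheme.Modules.pullback d).obj (Coh.structureModule X) := (LefFEt.uIso d).symm
  obtain ⟨b, hb⟩ := LefAmple.exists_lift_of_shortExact hS h1 (adj.homEquiv _ _ (e.inv ≫ α))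
  let g' := (adj.homEquiv P M).symm g
  haveI : Epi ((Scheme.Modules.pullbackPushforwardAdjunction d).homEquiv P M g') := by
    rw [show (adj.homEquiv P M g') = g from Equiv.apply_symm_apply _ _]; infer_instance
  haveI : Epi g' := LefPic.epi_of_epi_homEquiv d g'
  haveI : IsIso g' := SeesawX.isIso_of_epi_rank
    (SeesawX.isFinLocFreeOfRank_one (PicClLib.isInvertible_pullback _ hP))
    (SeesawX.isFinLocFreeOfRank_one (PicMul.isInvertible_of_iso eM.symm (PicClLib.isInvertible_pullback _ hP))) g'
  have h1' : (Scheme.Modules.pullback d).map b ≫ g' = e.inv ≫ α := by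
    rw [← Adjunction.homEquiv_naturality_left_symm, hb, Equiv.symm_apply_apply]
  have h2 : e.hom ≫ (Scheme.Modules.pullback d).map b = α ≫ (asIso g').symm.hom := by
    show _ = α ≫ inv g'
    rw [IsIso.eq_comp_inv, Category.assoc, h1', Iso.hom_inv_id_assoc]
  refine ⟨b, ?_⟩
  rintro _ ⟨p, rfl⟩
  have h3 : p ∈ d ⁻¹ᵁ CohB1.genLocus P b := by
    rw [← InvX.genLocus_pullback d hP b e, h2, InvX.genLocus_comp_iso]
    have h4 : (⊤ : D.Opens) ≤ CohB1.genLocus M α :=
      le_sSup (show IsIso ((Scheme.Modules.restrictFunctor (⊤ : D.Opens).ι).map α) from inferInstance)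
    exact h4 trivial
  exact h3

end Groth.Agent.H26.ArtinTriv
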