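import Groth.Agent.H26.GGContract.Fibre
import Groth.Agent.H26.SmoothMinimal
import Groth.Agent.H26.ArInter
import Groth.Agent.PnCoh.Chow.Proper

/-!
# The generic fibre of an integral fibred surface is an integral curve
-/

set_option autoImplicit false
set_option linter.style.haveILetI false
set_option backward.isDefEq.respectTransparency false
set_option backward.isDefEq.respectTransparency.types false

universe u

open CategoryTheory CategoryTheory.Limits AlgebraicGeometry TopologicalSpace

namespace Groth.Agent.H26.ArtinTriv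

variable {R : Type u} [CommRing R] [IsDomain R] [IsDiscreteValuationRing R]
  (X : Over (Spec (CommRingCat.of R))) [IsIntegral X.left] [Flat X.hom]

theorem apply_generic : X.hom (genericPoint X.left) = genericPoint (Spec (CommRingCat.of R)) := by
  obtain ⟨η', h1, h2⟩ := Flat.generalizingMap (f := X.hom) (a := genericPoint X.left) (genericPoint_specializes _)
  rwa [(h1.antisymm (genericPoint_specializes η')).eq] at h2

theorem exists_horizontal [LocallyOfFiniteType X.hom] (hdim : topologicalKrullDim X.left = 2) :
    ∃ x : X.left, X.hom x = genericPoint (Spec (CommRingCat.of R)) ∧ x ≠ genericPoint X.left := by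
  by_contra hno
  simp only [not_exists, not_and, not_not] at hno
  haveI : IsLocallyNoetherian X.left := LocallyOfFiniteType.isLocallyNoetherian X.hom
  let f := X.hom
  set η := genericPoint X.left
  have hη : f η = genericPoint (Spec (CommRingCat.of R)) := apply_generic X
  have hc : IsClosed ({f.asFiber η} : Set (f.fiber (f η))) := by
    have : ({f.asFiber η} : Set (f.fiber (f η))) = Set.univ := by
      refine Set.eq_univ_of_forall fun a => (f.fiberι (f η)).isEmbedding.injective ?_
      rw [f.fiberι_asFiber]
      exact hno _ ((f.range_fiberι (f η)).le ⟨a, rfl⟩ |>.trans hη)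
    rw [this]; exact isClosed_univ
  have hrd := SmoothMinimal.rd_eq_zero f η hc
  have hcd : ∀ x : X.left, DimFormula.cd (f η) (f x) = DimFormula.codim (f x) := fun x => by
    rw [hη]; exact DimFormula.cd_eq_codim_of_irreducible _
  have hall : ∀ x : X.left, DimFormula.codim x ≤ 1 := fun x => by
    have h := (DimFormula.cd_formula f (genericPoint_specializes x : η ⤳ x)).1
    have h2 := FibDimOne.codim_le_one (R := R) (f x)
    rw [hcd, hrd, DimFormula.cd_eq_codim_of_irreducible] at h
    omega
  have : topologicalKrullDim X.left ≤ 1 := by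
    rw [topologicalKrullDim, Order.krullDim_eq_of_orderIso irreducibleSetEquivPoints,
      Order.krullDim_eq_iSup_coheight_of_nonempty]
    refine WithBot.coe_le_coe.2 (iSup_le fun x => ?_)
    rw [← DimFormula.coe_codim]
    exact_mod_cast hall x
  rw [hdim] at this
  exact absurd this (by decide)

theorem isIntegral_and_dim [IsProper X.hom] (hdim : topologicalKrullDim X.left = 2) :
    IsIntegral (pullback X.hom (Neron.genPt R)) ∧ topologicalKrullDim ↥(pullback X.hom (Neron.genPt R)) = 1 := by
  haveI : IsPreimmersion (Neron.genPt R) := IsPreimmersion.of_isLocalization (nonZeroDivisors R)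
  let q := pullback.fst X.hom (Neron.genPt R)
  haveI : IsPreimmersion q := inferInstance
  have hr : ∀ x : X.left, X.hom x = genericPoint (Spec (CommRingCat.of R)) ↔ x ∈ Set.range q := fun x => by
    rw [Scheme.Pullback.range_fst, Set.mem_preimage, SmoothMinimal.range_genPt, Set.mem_singleton_iff]
  obtain ⟨g, hg⟩ := (hr _).1 (apply_generic X)
  haveI : Nonempty ↥(pullback X.hom (Neron.genPt R)) := ⟨g⟩
  have hgen : ∀ w, g ⤳ w := fun w =>
    q.isEmbedding.isInducing.specializes_iff.1 (hg ▸ genericPoint_specializes (q w))
  haveI : IrreducibleSpace ↥(pullback X.hom (Neron.genPt R)) := by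
    haveI : PreirreducibleSpace ↥(pullback X.hom (Neron.genPt R)) :=
      ⟨fun u v hu hv ⟨a, _, ha⟩ ⟨b, _, hb⟩ => ⟨g, trivial, (hgen a).mem_open hu ha, (hgen b).mem_open hv hb⟩⟩
    exact ⟨inferInstance⟩
  haveI : AlgebraicGeometry.IsReduced (pullback X.hom (Neron.genPt R)) := by
    haveI : ∀ w : ↥(pullback X.hom (Neron.genPt R)),
        _root_.IsReduced ((pullback X.hom (Neron.genPt R)).presheaf.stalk w) := fun w =>
      let e := RingEquiv.ofBijective (q.stalkMap w).hom (SmoothMinimal.bijective_stalkMap_fst X w)
      isReduced_of_injective e.symm.toRingHom e.symm.injective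
    exact isReduced_of_isReduced_stalk _
  refine ⟨isIntegral_of_irreducibleSpace_of_isReduced _, ?_⟩
  rw [topologicalKrullDim, Order.krullDim_eq_of_orderIso irreducibleSetEquivPoints]
  have hlt : ∀ {a b : ↥(pullback X.hom (Neron.genPt R))}, a < b → q b ⤳ q a ∧ q b ≠ q a := fun {a b} hab => by
    obtain ⟨h1, h2⟩ := lt_iff_le_not_ge.1 hab
    exact ⟨Specializes.map h1 q.continuous, fun h => h2 (q.isEmbedding.injective h ▸ le_rfl)⟩
  refine le_antisymm ?_ ?_
  · refine iSup_le fun p => ?_
    by_contra hlen
    have h2 : 2 ≤ p.length := by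
      by_contra h'
      exact hlen (by exact_mod_cast (show p.length ≤ 1 by omega))
    obtain ⟨a1, b1⟩ := hlt (p.step ⟨1, by omega⟩)
    obtain ⟨a0, b0⟩ := hlt (p.step ⟨0, by omega⟩)
    set x := q (p.toFun (Fin.castSucc ⟨1, by omega⟩))
    set z := q (p.toFun (Fin.castSucc ⟨0, by omega⟩))
    set y := q (p.toFun (Fin.succ ⟨1, by omega⟩))
    have hz : X.hom z = genericPoint (Spec (CommRingCat.of R)) := (hr z).2 ⟨_, rfl⟩
    obtain ⟨w, hw1, hw2⟩ := X.hom.isClosedMap.specializingMap
      (a := z) (show X.hom z ⤳ IsLocalRing.closedPoint R from hz ▸ genericPoint_specializes _)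
    refine GGContract.no_chain hdim.le a1 a0 hw1 b1 b0 fun h => ?_
    rw [← h, hz, genericPoint_eq_bot_of_affine (CommRingCat.of R)] at hw2
    exact GGContract.closedPoint_ne_bot R hw2.symm
  · obtain ⟨x, hx, hne⟩ := exists_horizontal X hdim
    obtain ⟨w, hw⟩ := (hr x).1 hx
    have hl : w < g := lt_iff_le_not_ge.2 ⟨hgen w, fun h => hne (by
      rw [← hw, ← hg]; exact congrArg q (Specializes.antisymm h (hgen w)).eq)⟩
    refine le_trans ?_ (Order.LTSeries.length_le_krullDim ((RelSeries.singleton _ w).snoc g hl))
    simp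

end Groth.Agent.H26.ArtinTriv
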