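import Groth.Agent.H26.ArtinTriv.Main
import Groth.Agent.H26.ArtinTriv.GenFib
import Groth.Agent.H26.GGContract.Main
import Groth.Agent.H26.HorizGG.Main
import Groth.Agent.AmpleX.Generated
import Groth.Agent.H9Misc.SectCmp.Connecting
import Groth.Agent.Lib.GenLocusGG

/-!
# Artin's contraction of a negative definite configuration with trivial Picard groups
-/

noncomputable section

set_option autoImplicit false
set_option linter.style.haveILetI false
set_option backward.isDefEq.respectTransparency false
set_option backward.isDefEq.respectTransparency.types false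

universe u

open CategoryTheory CategoryTheory.Limits AlgebraicGeometry TopologicalSpace Opposite
open Groth.Agent.H23

namespace Groth.Agent.H26.ArtinTriv

open Groth.Agent

/-- A monomorphism in a short exact sequence is bijective on sections away from the support of the cokernel. -/
theorem bijective_app_of_subsingleton {Y : Scheme.{u}} {S : ShortComplex Y.Modules} (hS : S.ShortExact)
    (V : Y.Opens) (h : ∀ W ≤ V, Subsingleton Γ(S.X₃, W)) : Function.Bijective (S.f.app V) := by
  haveI := hS.mono_f
  refine ⟨QCoh.app_injective S.f V, fun t => ?_⟩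
  haveI := h V le_rfl
  choose W hWV hyW a ha using fun y : V => H9Misc.SectCmp.app_exact hS.exact V t (Subsingleton.elim _ _) y.1 y.2
  obtain ⟨s, hs, -⟩ := TopCat.Sheaf.existsUnique_gluing' (⟨S.X₁.presheaf, S.X₁.isSheaf⟩ : TopCat.Sheaf AddCommGrpCat Y)
    W V (fun y => homOfLE (hWV y)) (fun y hy => Opens.mem_iSup.2 ⟨⟨y, hy⟩, hyW _⟩) a (fun y z => by
      refine QCoh.app_injective S.f (W y ⊓ W z) ?_
      refine ((AModX.app_res S.f inf_le_left (a y)).trans ?_).trans (AModX.app_res S.f inf_le_right (a z)).symm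
      rw [ha y, ha z]
      exact (AModX.res_res _ _ _).trans (AModX.res_res _ _ _).symm)
  refine ⟨s, AModX.eq_of_locally _ _ fun y hy => ⟨W ⟨y, hy⟩, hWV _, hyW _, ?_⟩⟩
  rw [← AModX.app_res S.f (hWV ⟨y, hy⟩) s]
  exact (congrArg (S.f.app _) (hs ⟨y, hy⟩)).trans (ha ⟨y, hy⟩)

theorem curveDeg_eq_deg {k : Type u} [Field k] {Y : Scheme.{u}} [Y.Over (Spec (CommRingCat.of k))] [IsIntegral Y]
    [IsProper (Y ↘ Spec (CommRingCat.of k))] (hdim : topologicalKrullDim Y = 1) {M : Y.Modules}
    (hM : PicF.IsInvertible M) : ArSurf.curveDeg k Y M = Curv2.deg k Y M 1 := by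
  haveI := CurveCohLib.isNoetherian_of_proper (k := k) (X := Y)
  have key : ∀ {N : Y.Modules}, Coh.IsQCoh N → FGA.eulerCharLE k Y N 1 = Curv2.euler k Y N := by
    intro N hN
    rw [CurveRR.euler_eq_h0_sub_h1 _ hdim.le hN, FGA.eulerCharLE, Finset.sum_range_succ, Finset.sum_range_one]
    simp
    ring
  unfold ArSurf.curveDeg Curv2.deg
  rw [key (CurveDeg.isCoh_of_isInvertible hM).1, key QCoh.isQCoh_structureModule]
  simp

variable {R : Type u} [CommRing R] [IsDomain R] [IsDiscreteValuationRing R]

/-- Artin's contraction. -/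
theorem exists_contraction {X : Over (Spec (CommRingCat.of R))} (hX : ArSurf.IsArithSurface R X)
    {r : ℕ} (Γ : Fin r → ArSurf.VertComp R X)
    (hΓ : Function.Injective fun i => Set.range ((Γ i).ι.base : (Γ i).curve.left → X.left))
    (L : Fin r → X.left.Modules) (hL : ∀ j, ClSub.IsInverseOf (L j) (ClSub.idealMod (Γ j).ι.ker))
    (hneg : ∀ a : Fin r → ℤ, a ≠ 0 →
      (Finset.univ : Finset (Fin r × Fin r)).sum (fun p => a p.1 * a p.2 * ArSurf.inter R X (L p.2) (Γ p.1)) < 0)
    (hpic : ∀ (Z : Scheme.{u}) (z : Z ⟶ X.left) [IsClosedImmersion z], BlowUp.IsEffCartierIdeal z.ker →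
      Nonempty Z → Set.range z.base ⊆ (⋃ i, Set.range (Γ i).ι.base) →
      ∀ N : Z.Modules, PicF.IsInvertible N →
        (∀ (i : Fin r) (g : (Γ i).curve.left ⟶ Z), g ≫ z = (Γ i).ι →
          ArSurf.curveDeg (IsLocalRing.ResidueField R) (Γ i).curve.left ((Scheme.Modules.pullback g).obj N) = 0) →
        Nonempty (N ≅ Coh.structureModule Z)) :
    ∃ (Y : Over (Spec (CommRingCat.of R))) (f : X ⟶ Y),
      IsIntegral Y.left ∧ (∀ q : Y.left, IsIntegrallyClosed (Y.left.presheaf.stalk q)) ∧
      topologicalKrullDim Y.left = 2 ∧ Flat Y.hom ∧ Neron.IsProjectiveOver R Y ∧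
      (∀ i, ∃ y : Y.left, Set.range (((Γ i).ι ≫ f.left).base : (Γ i).curve.left → Y.left) = {y}) ∧
      f.left.base ⁻¹' (f.left.base '' ⋃ i, Set.range (Γ i).ι.base) = ⋃ i, Set.range (Γ i).ι.base ∧
      ∀ V : Y.left.Opens, (V : Set Y.left) ∩ f.left.base '' (⋃ i, Set.range (Γ i).ι.base) = ∅ →
        IsIso (f.left ∣_ V) := by
  classical
  obtain ⟨hreg, hint, hdim, hflat, n, ι, hι, hcomm⟩ := hX
  haveI := hint
  haveI := hι
  haveI := hflat
  haveI := MultiP1.isProper_toBase (X := Spec (CommRingCat.of R)) n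
  haveI hpr : IsProper X.hom := hcomm ▸ inferInstance
  haveI : IsLocallyNoetherian X.left := LocallyOfFiniteType.isLocallyNoetherian X.hom
  have hnor : ∀ x : X.left, IsIntegrallyClosed (X.left.presheaf.stalk x) := fun x => by
    haveI := hreg x
    exact RegLoc6.isIntegrallyClosed_of_isRegularLocalRing _
  letI := PicMul.clMonoid X.left
  have heff : ∀ i, BlowUp.IsEffCartierIdeal (Γ i).ι.ker := fun i =>
    InterSymm.isEffCartier_ker hdim.le (by rw [hdim]; decide) hreg (Γ i)
  have hLi : ∀ i, PicF.IsInvertible (L i) := fun i =>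
    ArInter.isInvertible_of_inverse (IdealCl.isInvertible_idealMod (heff i)) (hL i)
  obtain ⟨A0, hA0⟩ := S11556.Aux.exists_ample_projSpaceOver R n
  haveI : CompactSpace X.left := QuasiCompact.compactSpace_of_compactSpace X.hom
  haveI : X.left.IsSeparated := ⟨by
    rw [← Limits.terminal.comp_from X.hom]
    infer_instance⟩
  let A := (Scheme.Modules.pullback ι).obj A0
  have hA : CohB1.IsAmple A := AmpleVan.isAmple_pullback_of_isEmbedding ι ι.isClosedEmbedding.isEmbedding hA0
  have hpos : ∀ E : ArSurf.VertComp R X, 0 < ArSurf.inter R X A E := fun E => by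
    haveI := E.isClosedImmersion
    haveI := E.isIntegral
    haveI := ArInter.isProper_curve E
    haveI : CompactSpace E.curve.left := E.ι.isClosedEmbedding.compactSpace
    rw [ArSurf.inter, ArInter.curveDeg_eq E (PicClLib.isInvertible_pullback _ hA.1)]
    exact CurveAmple.deg_pos_of_ample (k := IsLocalRing.ResidueField R) E.dim_eq
      (AmpleVan.isAmple_pullback_of_isEmbedding E.ι E.ι.isClosedEmbedding.isEmbedding hA)
  let Q : Matrix (Fin r) (Fin r) ℤ := fun i j => ArSurf.inter R X (L j) (Γ i)
  haveI := fun i => (Γ i).isClosedImmersion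
  haveI := fun i => (Γ i).isIntegral
  have hs : ∀ j, ((Γ j).ι.ker.support : Set X.left) = Set.range (Γ j).ι.base := fun j => by
    rw [Scheme.Hom.support_ker]
    exact (Γ j).ι.isClosedEmbedding.isClosed_range.closure_eq
  have hge : ∀ (E : ArSurf.VertComp R X) j, Set.range E.ι.base ≠ Set.range (Γ j).ι.base →
      0 ≤ ArSurf.inter R X (L j) E := fun E j hne =>
    (InterDiv.inter_nonneg_and_eq_zero_iff E (heff j)
      (by rw [hs]; exact InterSymm.genPt_notMem E (Γ j) hne) (hL j)).1
  obtain ⟨a, z, ha, hz, hsol⟩ := exists_pos_solution Q (fun i j hij => hge (Γ i) j fun h => hij (hΓ h)) (fun c hc => by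
    refine lt_of_eq_of_lt ?_ (hneg c hc)
    rw [Fintype.sum_prod_type]
    exact Finset.sum_congr rfl fun i _ => by
      rw [Finset.mul_sum]; exact Finset.sum_congr rfl fun j _ => by show c i * (Q i j * c j) = _; simp only [Q]; ring)
    (fun i => ArSurf.inter R X A (Γ i)) (fun i => hpos (Γ i))
  have hO : PicF.IsInvertible (Coh.structureModule X.left) := InvStalk.isInvertible_structureModule
  obtain ⟨n₁, hn₁⟩ := AmpleX.eventually_isGloballyGenerated hA (CurveDeg.isCoh_of_isInvertible hO).1
    (QCoh.isFT_of_isFP (QCoh.isFP_of_isFinLocFree (PullPush.isFinLocFree_of_isInvertible hO)))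
  obtain ⟨n₂, hn₂⟩ := (S0051.result R X.left X.hom A hA.1).1 hA (Coh.structureModule X.left)
    QCoh.isCoh_structureModule'
  let b := n₁ + n₂ + 1
  let I := ∏ j, (Γ j).ι.ker ^ (b * z j)
  obtain ⟨hI, hclI⟩ := IdealCl.eff_and_cl_prod Finset.univ (fun j => (Γ j).ι.ker) heff (fun j => b * z j)
  have hbz : ∀ j, 1 ≤ b * z j := fun j => Nat.one_le_iff_ne_zero.2 (Nat.mul_ne_zero (by omega) (by have := hz j; omega))
  have hsupp : (I.support : Set X.left) = ⋃ j, Set.range (Γ j).ι.base := by
    refine (mem_support_prod Finset.univ (fun j => (Γ j).ι.ker) (fun j => b * z j) hbz).trans ?_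
    simp only [Finset.mem_univ, Set.iUnion_true]
    exact Set.iUnion_congr hs
  let T := FGA.multiTwist L (fun j => b * z j)
  have hT : PicF.IsInvertible T := ArInter.isInvertible_multiTwist hLi _
  have hTI : PicF.cl T * PicF.cl (ClSub.idealMod I) = 1 := by
    rw [hclI, IdealCl.cl_multiTwist, ← Finset.prod_mul_distrib]
    refine Finset.prod_eq_one fun j _ => ?_
    rw [← mul_pow, ← PicMul.cl_tensor, PicMul.cl_eq_iff.2 (hL j)]
    exact one_pow _
  let m := b * a
  have hm : n₁ ≤ m ∧ n₂ ≤ m ∧ 0 < m := by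
    have : b ≤ b * a := Nat.le_mul_of_pos_right b ha
    simp only [m]; omega
  have hAm : PicF.IsInvertible (CohB1.tensorPow A m) := PicMul.isInvertible_tensorPow hA.1 _
  let N := CohB1.tensorMod (Coh.structureModule X.left) (CohB1.tensorPow A m)
  have hN : PicF.IsInvertible N := PicMul.isInvertible_tensor hO hAm
  let P := CohB1.tensorMod N T
  have hP : PicF.IsInvertible P := PicMul.isInvertible_tensor hN hT
  obtain ⟨e1⟩ : Nonempty (N ≅ CohB1.tensorMod P (ClSub.idealMod I.subschemeι.ker)) := by
    refine PicMul.cl_eq_iff.1 ?_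
    rw [Scheme.IdealSheafData.ker_subschemeι, PicMul.cl_tensor _ (ClSub.idealMod I), PicMul.cl_tensor _ T,
      mul_assoc, hTI, mul_one]
  have hrg : Set.range I.subschemeι.base = (I.support : Set X.left) := I.range_subschemeι
  have hinter : ∀ E : ArSurf.VertComp R X, ArSurf.inter R X P E =
      (b : ℤ) * ((a : ℤ) * ArSurf.inter R X A E + ∑ j, (z j : ℤ) * ArSurf.inter R X (L j) E) := fun E => by
    haveI := E.isClosedImmersion
    haveI := E.isIntegral
    rw [ArInter.inter_tensor E hN hT, ArInter.inter_tensor E hO hAm, ArInter.inter_structure E, zero_add,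
      ArInter.inter_multiTwist E hLi]
    have hpow : ∀ k : ℕ, ArSurf.inter R X (CohB1.tensorPow A k) E = (k : ℤ) * ArSurf.inter R X A E := by
      intro k
      induction k with
      | zero => rw [Nat.cast_zero, zero_mul]; exact ArInter.inter_structure E
      | succ k ih =>
        rw [show CohB1.tensorPow A (k + 1) = CohB1.tensorMod (CohB1.tensorPow A k) A from rfl,
          ArInter.inter_tensor E (PicMul.isInvertible_tensorPow hA.1 k) hA.1, ih]
        push_cast; ring
    rw [hpow, mul_add, Finset.mul_sum]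
    simp only [m]
    push_cast
    rw [mul_assoc]
    exact congrArg₂ (· + ·) rfl (Finset.sum_congr rfl fun j _ => by ring)
  have hzero : ∀ i, ArSurf.inter R X P (Γ i) = 0 := fun i => by
    rw [hinter, hsol i, mul_zero]
  -- generation along the divisor
  have hon : ∀ x ∈ (I.support : Set X.left), ∃ s : Coh.structureModule X.left ⟶ P,
      (I.support : Set X.left) ⊆ (CohB1.genLocus P s : Set X.left) := by
    intro x hx
    rw [← hrg] at hx ⊢
    obtain ⟨p, -⟩ := hx
    refine exists_section_generating I.subschemeι hP e1 (hn₂ m hm.2.1 1 one_pos) ?_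
    refine hpic I.subscheme I.subschemeι (by rw [Scheme.IdealSheafData.ker_subschemeι]; exact hI) ⟨p⟩
      (hrg.trans hsupp).le _ (PicClLib.isInvertible_pullback _ hP) fun i g hg => ?_
    haveI := ArInter.isProper_curve (Γ i)
    let iso : (Scheme.Modules.pullback g).obj ((Scheme.Modules.pullback I.subschemeι).obj P) ≅
        (Scheme.Modules.pullback (Γ i).ι).obj P :=
      (Scheme.Modules.pullbackComp g I.subschemeι).app P ≪≫ (Scheme.Modules.pullbackCongr hg).app P
    rw [ArInter.curveDeg_eq (Γ i) (PicClLib.isInvertible_pullback _ (PicClLib.isInvertible_pullback _ hP)),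
      CurveRR.deg_congr _ iso, ← ArInter.curveDeg_eq (Γ i) (PicClLib.isInvertible_pullback _ hP)]
    exact hzero i
  have hoff : ∀ x ∉ (I.support : Set X.left), ∃ s : Coh.structureModule X.left ⟶ P, x ∈ CohB1.genLocus P s := by
    intro x hx
    obtain ⟨f, M, g, w, -, hS⟩ := exists_seq I.subschemeι hP e1
    obtain ⟨t, ht⟩ := GenLocusGG.exists_mem_locus hN (hn₁ m hm.1) x
    obtain ⟨U, hxU, hU⟩ := TrivBasic.mem_locus_iff.1 ht
    let O : X.left.Opens := ⟨(I.support : Set X.left)ᶜ, I.support.isClosed.isOpen_compl⟩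
    refine ⟨InvX.ofSect (show Γ(P, ⊤) from f.app ⊤ t), ?_⟩
    refine TrivBasic.mem_locus_iff.2 ⟨U ⊓ O, ⟨hxU, hx⟩, ?_⟩
    rw [← AModX.app_res f (le_top : U ⊓ O ≤ ⊤) t]
    intro V hV
    have hb : Function.Bijective (f.app V) := bijective_app_of_subsingleton hS V fun W hW => by
      have hbot : I.subschemeι ⁻¹ᵁ W = ⊥ := eq_bot_iff.2 fun p hp =>
        (hV (hW hp)).2 (hrg ▸ ⟨p, rfl⟩)
      show Subsingleton Γ(M, I.subschemeι ⁻¹ᵁ W)
      rw [hbot]
      exact AddCommGrpCat.subsingleton_of_isZero
        (TopCat.Sheaf.isTerminalOfEmpty (⟨M.presheaf, M.isSheaf⟩ : TopCat.Sheaf AddCommGrpCat I.subscheme)).isZero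
    have h := hb.comp ((hU.res (inf_le_left : U ⊓ O ≤ U)) V hV)
    refine (congrArg Function.Bijective (funext fun c => ?_)).mp h
    show f.app V (c • _) = c • _
    rw [Scheme.Modules.Hom.app_smul, AModX.app_res, AModX.res_res]
  have hgg : Curv2.IsGloballyGenerated P := HorizGG.isGloballyGenerated_of_generators fun x => by
    by_cases hx : x ∈ (I.support : Set X.left)
    · obtain ⟨s, hsle⟩ := hon x hx; exact ⟨s, hsle hx⟩
    · exact hoff x hx
  -- positivity on the generic fibre
  have hdeg : 0 < ArSurf.curveDeg (FractionRing R) ((Neron.genericFibre R).obj X).left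
      ((Scheme.Modules.pullback (pullback.fst X.hom (Neron.genPt R))).obj P) := by
    obtain ⟨hi, hd⟩ := isIntegral_and_dim X hdim
    let Xη := ((Neron.genericFibre R).obj X).left
    haveI : IsIntegral Xη := hi
    let u : Xη ⟶ X.left := pullback.fst X.hom (Neron.genPt R)
    haveI : IsProper (Xη ↘ Spec (CommRingCat.of (FractionRing R))) :=
      show IsProper (pullback.snd X.hom (Neron.genPt R)) from inferInstance
    haveI : CompactSpace Xη := QuasiCompact.compactSpace_of_compactSpace (Xη ↘ Spec (CommRingCat.of (FractionRing R)))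
    haveI : IsPreimmersion (Neron.genPt R) := IsPreimmersion.of_isLocalization (nonZeroDivisors R)
    haveI : IsPreimmersion u := inferInstanceAs (IsPreimmersion (pullback.fst X.hom (Neron.genPt R)))
    haveI : IsAffineHom u := show IsAffineHom (pullback.fst X.hom (Neron.genPt R)) from MorphismProperty.pullback_fst _ _ (isAffineHom_of_isAffine _)
    letI := PicMul.clMonoid Xη
    have htop : I.comap u = ⊤ := by
      rw [← Scheme.IdealSheafData.support_eq_bot_iff, eq_bot_iff]
      intro y hy
      rw [Scheme.IdealSheafData.support_comap] at hy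
      have hy' : u y ∈ (I.support : Set X.left) := hy
      rw [hsupp] at hy'
      obtain ⟨i, c, hc⟩ := Set.mem_iUnion.1 hy'
      have h1 : X.hom (u y) = genericPoint (Spec (CommRingCat.of R)) := by
        have h : Neron.genPt R (pullback.snd X.hom (Neron.genPt R) y) ∈ Set.range (Neron.genPt R) := ⟨_, rfl⟩
        rw [SmoothMinimal.range_genPt] at h
        rw [← Scheme.Hom.comp_apply, show u ≫ X.hom = _ from pullback.condition, Scheme.Hom.comp_apply]
        exact h
      rw [← hc, ← Scheme.Hom.comp_apply, (Γ i).w, Scheme.Hom.comp_apply, genericPoint_eq_bot_of_affine] at h1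
      haveI : IsLocalHom (IsLocalRing.residue R) := inferInstance
      refine (GGContract.closedPoint_ne_bot R ?_).elim
      refine Eq.trans ?_ h1
      exact (IsLocalRing.closedPoint R).ext (by
        show IsLocalRing.maximalIdeal R = Ideal.comap (IsLocalRing.residue R) _
        rw [(Ideal.eq_bot_or_top _).resolve_right ((Γ i).curve.hom c).2.ne_top]
        exact (IsLocalRing.ker_residue (R := R)).symm)
    have hIu : PicMul.pullHom u (PicF.cl (ClSub.idealMod I)) = 1 := by
      obtain ⟨e⟩ := InterDiv.nonempty_pullback_idealMod u I hI (htop ▸ IdealCl.isEffCartier_top)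
      refine (show PicMul.pullHom u (PicF.cl (ClSub.idealMod I)) = PicF.cl (ClSub.idealMod (I.comap u)) from
        PicMul.cl_eq_iff.2 ⟨e⟩).trans ?_
      rw [htop, ← Scheme.IdealSheafData.one_eq_top]
      exact IdealCl.cl_one
    have hTu : PicMul.pullHom u (PicF.cl T) = 1 := by
      have h := congrArg (PicMul.pullHom u) hTI
      rwa [map_mul, hIu, mul_one, map_one] at h
    have hAu : CohB1.IsAmple ((Scheme.Modules.pullback u).obj A) :=
      AmpleVan.FiniteSurj.isAmple_pullback_of_isAffineHom u hA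
    obtain ⟨eP⟩ : Nonempty ((Scheme.Modules.pullback u).obj P ≅
        CohB1.tensorPow ((Scheme.Modules.pullback u).obj A) m) := by
      refine PicMul.cl_eq_iff.1 ?_
      show PicMul.pullHom u (PicF.cl (CohB1.tensorMod N T)) = _
      rw [PicMul.cl_tensor, PicMul.cl_tensor, map_mul, map_mul, hTu, mul_one,
        show PicF.cl (Coh.structureModule X.left) = 1 from PicMul.one_def.symm, map_one, one_mul,
        PicMul.cl_tensorPow, PicMul.cl_tensorPow, map_pow]
      rfl
    show 0 < ArSurf.curveDeg (FractionRing R) Xη ((Scheme.Modules.pullback u).obj P)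
    have hd' : topologicalKrullDim Xη = 1 := hd
    rw [curveDeg_eq_deg (Y := Xη) hd' (PicClLib.isInvertible_pullback _ hP), CurveRR.deg_congr _ eP,
      CurveAmple.deg_tensorPow hd' hAu.1]
    exact mul_pos (by exact_mod_cast hm.2.2) (CurveAmple.deg_pos_of_ample hd' hAu)
  refine GGContract.exists_contraction X hnor hdim ⟨n, ι, hι, hcomm⟩ Γ P hP hgg hdeg fun E => ?_
  haveI := E.isClosedImmersion
  haveI := E.isIntegral
  constructor
  · intro htriv
    by_contra hne
    simp only [not_exists] at hne
    have h0 : ArSurf.inter R X P E = 0 := by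
      haveI := ArInter.isProper_curve E
      rw [ArSurf.inter, ArInter.curveDeg_eq E (PicClLib.isInvertible_pullback _ hP),
        CurveRR.deg_congr _ htriv.some]
      unfold Curv2.deg
      simp
    rw [hinter] at h0
    have h1 : 0 < (a : ℤ) * ArSurf.inter R X A E + ∑ j, (z j : ℤ) * ArSurf.inter R X (L j) E :=
      add_pos_of_pos_of_nonneg (mul_pos (by exact_mod_cast ha) (hpos E))
        (Finset.sum_nonneg fun j _ => mul_nonneg (Int.natCast_nonneg _) (hge E j (hne j)))
    have hb : (0 : ℤ) < b := by simp only [b]; push_cast; positivity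
    exact (mul_pos hb h1).ne' h0
  · rintro ⟨i, hi⟩
    have hE : ∀ c, E.ι.base c ∈ (I.support : Set X.left) := fun c => by
      rw [hsupp]; exact Set.mem_iUnion.2 ⟨i, hi ▸ ⟨c, rfl⟩⟩
    obtain ⟨s, hsle⟩ := hon _ (hE (genericPoint _))
    refine TrivBasic.triv_of_frame (e := show Γ((Scheme.Modules.pullback E.ι).obj P, ⊤) from
      InvX.pullElt E.ι (InvX.one s)) (TrivBasic.locus_eq_top_iff.1 (top_le_iff.1 fun c _ => ?_))
    rw [TrivBasic.locus_pullElt hP E.ι (InvX.one s)]
    exact TrivBasic.mem_locus_iff.2 ⟨_, hsle (hE c), AmpleX.res_genLocus_frame s⟩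

end Groth.Agent.H26.ArtinTriv
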