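import Groth.Agent.H26.ArtinTriv.Algebra
import Groth.Agent.H26.ArtinTriv.Div
import Groth.Agent.H26.InterForm
import Groth.Agent.H26.InterSymm
import Groth.Agent.H26.Chain
import Groth.Agent.H26.ArInter
import Groth.Agent.S0051
import Groth.Agent.S11556
import Groth.Agent.AmpleVan.Pull
import Groth.Agent.Lib.CurveAmple

/-!
# Artin: invertible modules of degree zero are trivial near a negative definite configuration
-/

noncomputable section

set_option autoImplicit false
set_option linter.style.haveILetI false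
set_option backward.isDefEq.respectTransparency false
set_option backward.isDefEq.respectTransparency.types false

universe u

open CategoryTheory CategoryTheory.Limits AlgebraicGeometry TopologicalSpace Opposite
open Groth.Agent.H23

namespace Groth.Agent.H26.ArtinTriv

open Groth.Agent

variable {R : Type u} [CommRing R] [IsDomain R] [IsDiscreteValuationRing R]

theorem mem_support_prod {Y : Scheme.{u}} {ι : Type*} [DecidableEq ι] (s : Finset ι) (E : ι → Y.IdealSheafData)
    (z : ι → ℕ) (hz : ∀ i, 1 ≤ z i) :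
    ((∏ i ∈ s, E i ^ z i).support : Set Y) = ⋃ i ∈ s, ((E i).support : Set Y) := by
  induction s using Finset.induction with
  | empty => simp [Scheme.IdealSheafData.one_eq_top]
  | insert a t ha ih =>
    rw [Finset.prod_insert ha, Scheme.IdealSheafData.support_mul,
      Scheme.IdealSheafData.support_pow (I := E a) (z a) (by have := hz a; omega), Finset.set_biUnion_insert, ← ih]
    rfl

/-- Artin's trivialization. -/
theorem exists_trivial_nhd {X : Over (Spec (CommRingCat.of R))} (hX : ArSurf.IsArithSurface R X)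
    {r : ℕ} (Γ : Fin r → ArSurf.VertComp R X)
    (hΓ : Function.Injective fun i => Set.range ((Γ i).ι.base : (Γ i).curve.left → X.left))
    (L : Fin r → X.left.Modules) (hL : ∀ j, ClSub.IsInverseOf (L j) (ClSub.idealMod (Γ j).ι.ker))
    (hneg : ∀ a : Fin r → ℤ, a ≠ 0 →
      (Finset.univ : Finset (Fin r × Fin r)).sum (fun p => a p.1 * a p.2 * ArSurf.inter R X (L p.2) (Γ p.1)) < 0)
    (hpic : ∀ (Z : Scheme.{u}) (z : Z ⟶ X.left) [IsClosedImmersion z], BlowUp.IsEffCartierIdeal z.ker →
      Nonempty Z → Set.range z.base ⊆ (⋃ i, Set.range (Γ i).ι.base) →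
      ∀ N : Z.Modules, PicF.IsInvertible N →
        (∀ (i : Fin r) (g : (Γ i).curve.left ⟶ Z), g ≫ z = (Γ i).ι →
          ArSurf.curveDeg (IsLocalRing.ResidueField R) (Γ i).curve.left ((Scheme.Modules.pullback g).obj N) = 0) →
        Nonempty (N ≅ Coh.structureModule Z))
    (M : X.left.Modules) (hM : PicF.IsInvertible M) (hM0 : ∀ i, ArSurf.inter R X M (Γ i) = 0) :
    ∃ W : X.left.Opens, (∀ i, Set.range ((Γ i).ι.base : (Γ i).curve.left → X.left) ⊆ (W : Set X.left)) ∧
      Nonempty (M.restrict W.ι ≅ Coh.structureModule (W : Scheme.{u})) := by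
  classical
  obtain ⟨hreg, hint, hdim, hflat, n, ι, hι, hcomm⟩ := hX
  haveI := hint
  rcases Nat.eq_zero_or_pos r with hr | hr
  · obtain ⟨U, -, e⟩ := hM (genericPoint X.left)
    exact ⟨U, fun i => absurd i.2 (by omega), e⟩
  haveI := hι
  haveI := hflat
  haveI := MultiP1.isProper_toBase (X := Spec (CommRingCat.of R)) n
  haveI hpr : IsProper X.hom := hcomm ▸ inferInstance
  haveI : IsLocallyNoetherian X.left := LocallyOfFiniteType.isLocallyNoetherian X.hom
  letI := PicMul.clMonoid X.left
  have heff : ∀ i, BlowUp.IsEffCartierIdeal (Γ i).ι.ker := fun i =>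
    InterSymm.isEffCartier_ker hdim.le (by rw [hdim]; decide) hreg (Γ i)
  have hLi : ∀ i, PicF.IsInvertible (L i) := fun i =>
    ArInter.isInvertible_of_inverse (IdealCl.isInvertible_idealMod (heff i)) (hL i)
  obtain ⟨A0, hA0⟩ := S11556.Aux.exists_ample_projSpaceOver R n
  haveI : CompactSpace X.left := QuasiCompact.compactSpace_of_compactSpace X.hom
  let A := (Scheme.Modules.pullback ι).obj A0
  have hA : CohB1.IsAmple A := AmpleVan.isAmple_pullback_of_isEmbedding ι ι.isClosedEmbedding.isEmbedding hA0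
  have hpos : ∀ i, 0 < ArSurf.inter R X A (Γ i) := fun i => by
    haveI := ArInter.isProper_curve (Γ i)
    haveI : CompactSpace (Γ i).curve.left := (Γ i).ι.isClosedEmbedding.compactSpace
    rw [ArSurf.inter, ArInter.curveDeg_eq (Γ i) (PicClLib.isInvertible_pullback _ hA.1)]
    exact CurveAmple.deg_pos_of_ample (k := IsLocalRing.ResidueField R) (Γ i).dim_eq
      (AmpleVan.isAmple_pullback_of_isEmbedding (Γ i).ι (Γ i).ι.isClosedEmbedding.isEmbedding hA)
  let Q : Matrix (Fin r) (Fin r) ℤ := fun i j => ArSurf.inter R X (L j) (Γ i)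
  have hoff : ∀ i j, i ≠ j → 0 ≤ Q i j := fun i j hij => by
    have hs : ((Γ j).ι.ker.support : Set X.left) = Set.range (Γ j).ι.base := by
      rw [Scheme.Hom.support_ker]
      exact (Γ j).ι.isClosedEmbedding.isClosed_range.closure_eq
    exact (InterDiv.inter_nonneg_and_eq_zero_iff (Γ i) (heff j)
      (by rw [hs]; exact InterSymm.genPt_notMem (Γ i) (Γ j) fun h => hij (hΓ h)) (hL j)).1
  obtain ⟨a, z, ha, hz, hsol⟩ := exists_pos_solution Q hoff (fun c hc => by
    refine lt_of_eq_of_lt ?_ (hneg c hc)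
    rw [Fintype.sum_prod_type]
    exact Finset.sum_congr rfl fun i _ => by
      rw [Finset.mul_sum]; exact Finset.sum_congr rfl fun j _ => by show c i * (Q i j * c j) = _; simp only [Q]; ring)
    (fun i => ArSurf.inter R X A (Γ i)) hpos
  obtain ⟨n₁, hn₁⟩ := (S0051.result R X.left X.hom A hA.1).1 hA M (CurveDeg.isCoh_of_isInvertible hM)
  obtain ⟨n₂, hn₂⟩ := (S0051.result R X.left X.hom A hA.1).1 hA (Coh.structureModule X.left)
    QCoh.isCoh_structureModule'
  let b := n₁ + n₂ + 1
  let I := ∏ j, (Γ j).ι.ker ^ (b * z j)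
  obtain ⟨hI, hclI⟩ := IdealCl.eff_and_cl_prod Finset.univ (fun j => (Γ j).ι.ker) heff (fun j => b * z j)
  have hbz : ∀ j, 1 ≤ b * z j := fun j => Nat.one_le_iff_ne_zero.2 (Nat.mul_ne_zero (by omega) (by have := hz j; omega))
  have hsupp : (I.support : Set X.left) = ⋃ j, Set.range (Γ j).ι.base := by
    refine (mem_support_prod Finset.univ (fun j => (Γ j).ι.ker) (fun j => b * z j) hbz).trans ?_
    simp only [Finset.mem_univ, Set.iUnion_true]
    exact Set.iUnion_congr fun j => by
      rw [Scheme.Hom.support_ker]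
      exact (Γ j).ι.isClosedEmbedding.isClosed_range.closure_eq
  let T := FGA.multiTwist L (fun j => b * z j)
  have hT : PicF.IsInvertible T := ArInter.isInvertible_multiTwist hLi _
  have hTI : PicF.cl T * PicF.cl (ClSub.idealMod I) = 1 := by
    rw [hclI, IdealCl.cl_multiTwist, ← Finset.prod_mul_distrib]
    refine Finset.prod_eq_one fun j _ => ?_
    rw [← mul_pow, ← PicMul.cl_tensor, PicMul.cl_eq_iff.2 (hL j)]
    exact one_pow _
  have hAb : PicF.IsInvertible (CohB1.tensorPow A (b * a)) := PicMul.isInvertible_tensorPow hA.1 _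
  have hintA : ∀ m i, ArSurf.inter R X (CohB1.tensorPow A m) (Γ i) = (m : ℤ) * ArSurf.inter R X A (Γ i) := by
    intro m i
    induction m with
    | zero => rw [Nat.cast_zero, zero_mul]; exact ArInter.inter_structure (Γ i)
    | succ m ih =>
      rw [show CohB1.tensorPow A (m + 1) = CohB1.tensorMod (CohB1.tensorPow A m) A from rfl,
        ArInter.inter_tensor (Γ i) (PicMul.isInvertible_tensorPow hA.1 m) hA.1, ih]
      push_cast; ring
  have key : ∀ F : X.left.Modules, PicF.IsInvertible F → (∀ i, ArSurf.inter R X F (Γ i) = 0) →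
      Subsingleton (Coh.HH X.left (CohB1.tensorMod F (CohB1.tensorPow A (b * a))) 1) →
      ∃ s : Coh.structureModule X.left ⟶ CohB1.tensorMod (CohB1.tensorMod F (CohB1.tensorPow A (b * a))) T,
        (I.support : Set X.left) ⊆ (CohB1.genLocus _ s : Set X.left) := by
    intro F hF hF0 hvan
    have hFA := PicMul.isInvertible_tensor hF hAb
    have hP := PicMul.isInvertible_tensor hFA hT
    obtain ⟨e1⟩ : Nonempty (CohB1.tensorMod F (CohB1.tensorPow A (b * a)) ≅
        CohB1.tensorMod (CohB1.tensorMod (CohB1.tensorMod F (CohB1.tensorPow A (b * a))) T)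
          (ClSub.idealMod I.subschemeι.ker)) := by
      refine PicMul.cl_eq_iff.1 ?_
      rw [Scheme.IdealSheafData.ker_subschemeι, PicMul.cl_tensor _ (ClSub.idealMod I), PicMul.cl_tensor _ T,
        mul_assoc, hTI, mul_one]
    have hrg : Set.range I.subschemeι.base = (I.support : Set X.left) := I.range_subschemeι
    rw [← hrg]
    refine exists_section_generating I.subschemeι hP e1 hvan ?_
    have hne : Nonempty I.subscheme := by
      have hp : (Γ ⟨0, hr⟩).ι.base (genericPoint _) ∈ (I.support : Set X.left) := by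
        rw [hsupp]; exact Set.mem_iUnion.2 ⟨_, _, rfl⟩
      rw [← hrg] at hp
      exact ⟨hp.choose⟩
    refine hpic I.subscheme I.subschemeι (by rw [Scheme.IdealSheafData.ker_subschemeι]; exact hI) hne
      (hrg.trans hsupp).le _ (PicClLib.isInvertible_pullback _ hP) fun i g hg => ?_
    haveI := ArInter.isProper_curve (Γ i)
    let P := CohB1.tensorMod (CohB1.tensorMod F (CohB1.tensorPow A (b * a))) T
    have h0 : ArSurf.inter R X P (Γ i) = 0 := by
      rw [ArInter.inter_tensor (Γ i) hFA hT, ArInter.inter_tensor (Γ i) hF hAb, hF0 i, hintA,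
        ArInter.inter_multiTwist (Γ i) hLi]
      have := hsol i
      simp only [Q] at this
      push_cast
      rw [show (∑ j, (b : ℤ) * (z j : ℤ) * ArSurf.inter R X (L j) (Γ i)) =
        (b : ℤ) * ∑ j, (z j : ℤ) * ArSurf.inter R X (L j) (Γ i) by
          rw [Finset.mul_sum]; exact Finset.sum_congr rfl fun j _ => by ring]
      linear_combination (b : ℤ) * this
    let iso : (Scheme.Modules.pullback g).obj ((Scheme.Modules.pullback I.subschemeι).obj P) ≅
        (Scheme.Modules.pullback (Γ i).ι).obj P :=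
      (Scheme.Modules.pullbackComp g I.subschemeι).app P ≪≫ (Scheme.Modules.pullbackCongr hg).app P
    rw [ArInter.curveDeg_eq (Γ i) (PicClLib.isInvertible_pullback _ (PicClLib.isInvertible_pullback _ hP)),
      CurveRR.deg_congr _ iso, ← ArInter.curveDeg_eq (Γ i) (PicClLib.isInvertible_pullback _ hP)]
    exact h0
  have hb1 : n₁ ≤ b * a ∧ n₂ ≤ b * a := by
    have : b ≤ b * a := Nat.le_mul_of_pos_right b ha
    omega
  have hO : PicF.IsInvertible (Coh.structureModule X.left) := InvStalk.isInvertible_structureModule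
  obtain ⟨s₁, hs₁⟩ := key M hM hM0 (hn₁ _ hb1.1 1 one_pos)
  obtain ⟨s₂, hs₂⟩ := key _ hO (fun i => ArInter.inter_structure (Γ i)) (hn₂ _ hb1.2 1 one_pos)
  let V₁ := CohB1.genLocus _ s₁
  let V₂ := CohB1.genLocus _ s₂
  refine ⟨V₁ ⊓ V₂, fun i x hx => ?_, ?_⟩
  · have : x ∈ (I.support : Set X.left) := by rw [hsupp]; exact Set.mem_iUnion.2 ⟨i, hx⟩
    exact ⟨hs₁ this, hs₂ this⟩
  · let W := V₁ ⊓ V₂
    letI := PicMul.clMonoid (W : Scheme.{u})
    have triv : ∀ {P : X.left.Modules} (s : Coh.structureModule X.left ⟶ P), W ≤ CohB1.genLocus P s →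
        PicMul.pullHom W.ι (PicF.cl P) = 1 := fun {P} s hle => by
      haveI : IsIso ((Scheme.Modules.restrictFunctor W.ι).map s) :=
        (InvX.isIso_restrict_iff s W).2 (by
          have h := (AmpleX.res_genLocus_frame s).res hle
          rwa [AModX.res_res] at h)
      haveI : IsIso ((Scheme.Modules.pullback W.ι).map s) :=
        (NatIso.isIso_map_iff (Scheme.Modules.restrictFunctorIsoPullback W.ι) s).1 inferInstance
      show PicF.pullCl W.ι (PicF.cl P) = 1
      exact (PicMul.cl_eq_iff.2 ⟨(asIso ((Scheme.Modules.pullback W.ι).map s)).symm ≪≫ LefFEt.uIso W.ι⟩).trans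
        PicMul.one_def.symm
    have h1 := triv s₁ inf_le_left
    have h2 := triv s₂ inf_le_right
    rw [PicMul.cl_tensor, PicMul.cl_tensor] at h1 h2
    rw [show PicF.cl (Coh.structureModule X.left) = 1 from PicMul.one_def.symm, one_mul] at h2
    rw [mul_assoc, map_mul, h2, mul_one] at h1
    obtain ⟨e⟩ := PicMul.cl_eq_iff.1
      (show PicF.cl ((Scheme.Modules.pullback W.ι).obj M) = PicF.cl (Coh.structureModule _) from
        h1.trans PicMul.one_def)
    exact ⟨(Scheme.Modules.restrictFunctorIsoPullback W.ι).app M ≪≫ e⟩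

end Groth.Agent.H26.ArtinTriv
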