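import Mathlib.LinearAlgebra.Matrix.NonsingularInverse
import Mathlib.LinearAlgebra.Matrix.ToLinearEquiv
import Mathlib.Algebra.Order.BigOperators.Group.Finset

/-!
# Effective solutions for negative definite forms
-/

set_option autoImplicit false

namespace Groth.Agent.H26.ArtinTriv

/-- A negative definite matrix with nonnegative entries off the diagonal sends some positive vector to a negative
multiple of any positive vector. -/
theorem exists_pos_solution {r : ℕ} (Q : Matrix (Fin r) (Fin r) ℤ) (hoff : ∀ i j, i ≠ j → 0 ≤ Q i j)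
    (hneg : ∀ a : Fin r → ℤ, a ≠ 0 → ∑ i, a i * ∑ j, Q i j * a j < 0) (h : Fin r → ℤ) (hh : ∀ i, 0 < h i) :
    ∃ (a : ℕ) (z : Fin r → ℕ), 0 < a ∧ (∀ i, 1 ≤ z i) ∧ ∀ i, (a : ℤ) * h i + ∑ j, (z j : ℤ) * Q i j = 0 := by
  classical
  have hdet : Q.det ≠ 0 := fun h0 => by
    obtain ⟨v, hv, hv0⟩ := Matrix.exists_mulVec_eq_zero_iff.2 h0
    have hlt := hneg v hv
    have : ∀ i, ∑ j, Q i j * v j = 0 := fun i => congrFun hv0 i
    simp only [this, mul_zero, Finset.sum_const_zero] at hlt
    exact lt_irrefl _ hlt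
  obtain ⟨a, ha, w, hw⟩ : ∃ a : ℤ, 0 < a ∧ ∃ w : Fin r → ℤ, ∀ i, ∑ j, Q i j * w j = -(a * h i) := by
    have key : ∀ u : Fin r → ℤ, ∀ i, ∑ j, Q i j * (Q.adjugate.mulVec u) j = Q.det * u i := fun u i => by
      have h2 : Q.mulVec (Q.adjugate.mulVec u) = Q.det • u := by
        rw [Matrix.mulVec_mulVec, Matrix.mul_adjugate, Matrix.smul_mulVec, Matrix.one_mulVec]
      exact congrFun h2 i
    rcases lt_or_gt_of_ne hdet with hd | hd
    · exact ⟨-Q.det, by omega, Q.adjugate.mulVec h, fun i => by rw [key]; ring⟩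
    · exact ⟨Q.det, hd, Q.adjugate.mulVec (-h), fun i => by rw [key, Pi.neg_apply]; ring⟩
  have hnn : ∀ i, 0 ≤ w i := by
    let y : Fin r → ℤ := fun i => max (-w i) 0
    let p : Fin r → ℤ := fun i => max (w i) 0
    suffices hy : y = 0 by
      intro i
      have h3 : max (-w i) 0 = 0 := congrFun hy i
      omega
    by_contra hy
    have h1 : ∑ i, y i * ∑ j, Q i j * w j ≤ 0 := by
      refine Finset.sum_nonpos fun i _ => ?_
      rw [hw i]
      exact mul_nonpos_of_nonneg_of_nonpos (le_max_right _ _) (by nlinarith [hh i])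
    have h2 : ∀ i, ∑ j, Q i j * w j = ∑ j, Q i j * p j - ∑ j, Q i j * y j := fun i => by
      rw [← Finset.sum_sub_distrib]
      refine Finset.sum_congr rfl fun j _ => ?_
      rw [← mul_sub]
      congr 1
      simp only [p, y]
      omega
    have h3 : 0 ≤ ∑ i, y i * ∑ j, Q i j * p j := by
      refine Finset.sum_nonneg fun i _ => ?_
      rw [Finset.mul_sum]
      refine Finset.sum_nonneg fun j _ => ?_
      rcases eq_or_ne i j with rfl | hij
      · rcases le_total 0 (w i) with hwi | hwi
        · rw [show y i = 0 from max_eq_right (by omega), zero_mul]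
        · rw [show p i = 0 from max_eq_right hwi, mul_zero, mul_zero]
      · exact mul_nonneg (le_max_right _ _) (mul_nonneg (hoff i j hij) (le_max_right _ _))
    have h4 := hneg y hy
    simp only [h2, mul_sub, Finset.sum_sub_distrib] at h1
    linarith
  refine ⟨a.toNat, fun i => (w i).toNat, by omega, fun i => ?_, fun i => ?_⟩
  · by_contra hlt
    have hwi : w i = 0 := by
      have h6 := hnn i
      simp only [not_le, Nat.lt_one_iff, Int.toNat_eq_zero] at hlt
      omega
    have h5 : 0 ≤ ∑ j, Q i j * w j := Finset.sum_nonneg fun j _ => by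
      rcases eq_or_ne i j with rfl | hij
      · rw [hwi, mul_zero]
      · exact mul_nonneg (hoff i j hij) (hnn j)
    rw [hw i] at h5
    nlinarith [hh i]
  · rw [Int.toNat_of_nonneg ha.le]
    simp only [Int.toNat_of_nonneg (hnn _)]
    rw [show (∑ j, w j * Q i j) = ∑ j, Q i j * w j from Finset.sum_congr rfl fun j _ => mul_comm _ _, hw i]
    ring

end Groth.Agent.H26.ArtinTriv
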